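import Mathlib.Algebra.Homology.Homotopy
import Mathlib.Algebra.Homology.Additive
import Mathlib.CategoryTheory.Limits.Preserves.Shapes.Kernels
import Mathlib.CategoryTheory.Limits.Preserves.Shapes.Products
import Mathlib.CategoryTheory.Abelian.Basic

/-! The total complex of the resolution attached to a natural embedding `η : 𝟭 ⟶ P`, and its
contraction after applying a functor on which `η` is naturally split. -/

universe v u v' u'

open CategoryTheory CategoryTheory.Limits

set_option backward.isDefEq.respectTransparency false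

namespace Groth.Agent.GodTot16

variable {A : Type u} [Category.{v} A] [Abelian A] (P : A ⥤ A) [P.Additive] (η : 𝟭 A ⟶ P)

/-- the cokernel of the embedding -/
noncomputable def C : A ⥤ A where
  obj F := cokernel (η.app F)
  map {F G} f := cokernel.map _ _ f (P.map f) (η.naturality f).symm
  map_id F := by
    apply coequalizer.hom_ext
    erw [cokernel.π_desc, CategoryTheory.Functor.map_id, Category.id_comp, Category.comp_id]
  map_comp f g := by
    apply coequalizer.hom_ext
    simp [cokernel.map]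

/-- the projection -/
noncomputable def pi : P ⟶ C P η where
  app F := cokernel.π (η.app F)
  naturality F G f := (cokernel.π_desc (η.app F) _ _).symm

instance : (C P η).Additive where
  map_add {F G f g} := by
    apply coequalizer.hom_ext
    change (pi P η).app F ≫ _ = (pi P η).app F ≫ _
    rw [Preadditive.comp_add, ← (pi P η).naturality, ← (pi P η).naturality, ← (pi P η).naturality,
      P.map_add, Preadditive.add_comp]

/-- iterated cokernels -/
noncomputable def Cpow : ℕ → A ⥤ A
  | 0 => 𝟭 A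
  | q + 1 => Cpow q ⋙ C P η

instance additive_Cpow : ∀ q, (Cpow P η q).Additive
  | 0 => inferInstanceAs (𝟭 A).Additive
  | q + 1 =>
    haveI := additive_Cpow q
    inferInstanceAs ((Cpow P η q ⋙ C P η).Additive)

/-- the terms -/
noncomputable abbrev term (q : ℕ) : A ⥤ A := Cpow P η q ⋙ P

/-- the resolution differential -/
noncomputable def e (q : ℕ) (F : A) : (term P η q).obj F ⟶ (term P η (q + 1)).obj F :=
  (pi P η).app ((Cpow P η q).obj F) ≫ η.app ((Cpow P η (q + 1)).obj F)

lemma e_naturality (q : ℕ) {F G : A} (f : F ⟶ G) :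
    (term P η q).map f ≫ e P η q G = e P η q F ≫ (term P η (q + 1)).map f := by
  have h1 := (pi P η).naturality ((Cpow P η q).map f)
  have h2 := η.naturality ((Cpow P η (q + 1)).map f)
  rw [e, e, Category.assoc]
  refine (Category.assoc _ _ _).symm.trans ((congrArg (· ≫ _) h1).trans ?_)
  exact (Category.assoc _ _ _).trans (congrArg (_ ≫ ·) h2)

lemma e_comp_e (q : ℕ) (F : A) : e P η q F ≫ e P η (q + 1) F = 0 := by
  rw [e, e, Category.assoc]
  have : η.app ((Cpow P η (q + 1)).obj F) ≫ (pi P η).app ((Cpow P η (q + 1)).obj F) = 0 :=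
    cokernel.condition _
  rw [reassoc_of% this, zero_comp, comp_zero]

lemma η_comp_e (F : A) : η.app F ≫ e P η 0 F = 0 := by
  have : η.app F ≫ (pi P η).app F = 0 := cokernel.condition _
  rw [e]
  exact (Category.assoc _ _ _).symm.trans ((congrArg (· ≫ _) this).trans zero_comp)

variable [HasCoproductsOfShape ℕ A] (K : CochainComplex A ℤ)

/-- degree `n` of the total complex -/
noncomputable abbrev X (n : ℤ) : A := ∐ fun q : ℕ => (term P η q).obj (K.X (n - q))

/-- the inclusions -/
noncomputable def ι (q : ℕ) (m n : ℤ) (h : m + q = n) : (term P η q).obj (K.X m) ⟶ X P η K n :=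
  (term P η q).map (K.XIsoOfEq (by omega : m = n - q)).hom ≫
    Sigma.ι (fun q : ℕ => (term P η q).obj (K.X (n - q))) q

lemma hom_ext {n : ℤ} {T : A} {f g : X P η K n ⟶ T}
    (h : ∀ (q : ℕ) (m : ℤ) (hm : m + q = n), ι P η K q m n hm ≫ f = ι P η K q m n hm ≫ g) : f = g :=
  Sigma.hom_ext _ _ fun q => by simpa [ι, HomologicalComplex.XIsoOfEq] using h q (n - q) (by omega)

/-- maps out -/
noncomputable def desc {n : ℤ} {T : A}
    (φ : ∀ (q : ℕ) (m : ℤ), m + q = n → ((term P η q).obj (K.X m) ⟶ T)) : X P η K n ⟶ T :=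
  Sigma.desc fun q => φ q (n - q) (by omega)

@[reassoc (attr := simp)]
lemma ι_desc {n : ℤ} {T : A} (φ : ∀ (q : ℕ) (m : ℤ), m + q = n → ((term P η q).obj (K.X m) ⟶ T))
    (q : ℕ) (m : ℤ) (h : m + q = n) : ι P η K q m n h ≫ desc P η K φ = φ q m h := by
  obtain rfl : m = n - q := by omega
  simp [ι, desc, HomologicalComplex.XIsoOfEq]

/-- the differential -/
noncomputable def d (n : ℤ) : X P η K n ⟶ X P η K (n + 1) :=
  desc P η K fun q m h =>
    (-1 : ℤ) ^ q • ((term P η q).map (K.d m (m + 1)) ≫ ι P η K q (m + 1) (n + 1) (by omega)) +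
      e P η q (K.X m) ≫ ι P η K (q + 1) m (n + 1) (by push_cast; omega)

lemma d_d (n : ℤ) : d P η K n ≫ d P η K (n + 1) = 0 := by
  apply hom_ext
  intro q m h
  simp only [d, ι_desc_assoc, ι_desc, Preadditive.add_comp, Preadditive.zsmul_comp, Category.assoc,
    Preadditive.comp_add, Preadditive.comp_zsmul, comp_zero, smul_add, smul_smul]
  have h1 : (term P η q).map (K.d m (m + 1)) ≫ (term P η q).map (K.d (m + 1) (m + 1 + 1)) = 0 := by
    rw [← Functor.map_comp, K.d_comp_d, Functor.map_zero]
  simp only [Functor.comp_map, Functor.comp_obj] at h1 ⊢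
  rw [reassoc_of% h1, reassoc_of% (e_comp_e P η q (K.X m)), zero_comp, zero_comp,
    reassoc_of% (e_naturality P η q (K.d m (m + 1))), smul_zero, zero_add, add_zero, ← add_smul]
  rw [show ((-1 : ℤ) ^ q + (-1 : ℤ) ^ (q + 1)) = 0 by simp [pow_succ], zero_smul]

/-- the total complex -/
noncomputable def G : CochainComplex A ℤ := CochainComplex.of (X P η K) (d P η K) (d_d P η K)

lemma G_d (n : ℤ) : (G P η K).d n (n + 1) = d P η K n := CochainComplex.of_d (X P η K) (d P η K) n

/-- the coaugmentation -/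
noncomputable def aug : K ⟶ G P η K where
  f n := η.app (K.X n) ≫ ι P η K 0 n n (by simp)
  comm' := fun i j hij => by
    obtain rfl : i + 1 = j := hij
    change (η.app (K.X i) ≫ ι P η K 0 i i _) ≫ (G P η K).d i (i + 1) =
      K.d i (i + 1) ≫ η.app (K.X (i + 1)) ≫ ι P η K 0 (i + 1) (i + 1) _
    rw [G_d]
    simp only [d, Category.assoc, ι_desc, pow_zero, one_smul, Preadditive.comp_add]
    have h1 := η.naturality (K.d i (i + 1))
    have h2 := η_comp_e P η (K.X i)
    change _ + η.app (K.X i) ≫ e P η 0 (K.X i) ≫ _ = _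
    rw [← Category.assoc (η.app (K.X i)) (e P η 0 (K.X i)), h2, zero_comp, add_zero]
    exact (Category.assoc _ _ _).symm.trans ((congrArg (· ≫ _) h1.symm).trans (Category.assoc _ _ _))

section Split

variable {B : Type u'} [Category.{v'} B] [Abelian B] [HasCoproductsOfShape ℕ B] (Φ : A ⥤ B) [Φ.Additive]
  [PreservesColimitsOfShape (Discrete ℕ) Φ] [PreservesFiniteColimits Φ]
  (r : ∀ F, Φ.obj (P.obj F) ⟶ Φ.obj F)
  (rnat : ∀ {F F' : A} (f : F ⟶ F'), Φ.map (P.map f) ≫ r F' = r F ≫ Φ.map f)
  (hr : ∀ F, Φ.map (η.app F) ≫ r F = 𝟙 (Φ.obj F))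

lemma map_hom_ext {n : ℤ} {T : B} {f g : Φ.obj (X P η K n) ⟶ T}
    (h : ∀ (q : ℕ) (m : ℤ) (hm : m + q = n),
      Φ.map (ι P η K q m n hm) ≫ f = Φ.map (ι P η K q m n hm) ≫ g) : f = g := by
  refine (isColimitCofanMkObjOfIsColimit Φ _ _ (coproductIsCoproduct _)).hom_ext fun j => ?_
  simpa [ι, HomologicalComplex.XIsoOfEq] using h j.as (n - j.as) (by omega)

/-- maps out of the image of a term -/
noncomputable def mdesc {n : ℤ} {T : B}
    (φ : ∀ (q : ℕ) (m : ℤ), m + q = n → (Φ.obj ((term P η q).obj (K.X m)) ⟶ T)) :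
    Φ.obj (X P η K n) ⟶ T :=
  (PreservesCoproduct.iso Φ (fun q : ℕ => (term P η q).obj (K.X (n - q)))).hom ≫
    Sigma.desc fun q => φ q (n - q) (by omega)

@[reassoc (attr := simp)]
lemma ι_mdesc {n : ℤ} {T : B}
    (φ : ∀ (q : ℕ) (m : ℤ), m + q = n → (Φ.obj ((term P η q).obj (K.X m)) ⟶ T))
    (q : ℕ) (m : ℤ) (h : m + q = n) : Φ.map (ι P η K q m n h) ≫ mdesc P η K Φ φ = φ q m h := by
  obtain rfl : m = n - q := by omega
  have : Φ.map (Sigma.ι (fun q : ℕ => (term P η q).obj (K.X (n - q))) q) ≫
      (PreservesCoproduct.iso Φ (fun q : ℕ => (term P η q).obj (K.X (n - q)))).hom =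
      Sigma.ι (fun q : ℕ => Φ.obj ((term P η q).obj (K.X (n - q)))) q := by
    rw [← Iso.eq_comp_inv, PreservesCoproduct.inv_hom, ι_comp_sigmaComparison]
  simp [ι, mdesc, HomologicalComplex.XIsoOfEq, reassoc_of% this]

lemma map_ι_d (q : ℕ) (m n : ℤ) (h : m + q = n) :
    Φ.map (ι P η K q m n h) ≫ Φ.map (d P η K n) =
      (-1 : ℤ) ^ q • (Φ.map ((term P η q).map (K.d m (m + 1))) ≫
          Φ.map (ι P η K q (m + 1) (n + 1) (by omega))) +
        Φ.map (e P η q (K.X m)) ≫ Φ.map (ι P η K (q + 1) m (n + 1) (by push_cast; omega)) := by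
  rw [← Functor.map_comp, d, ι_desc]
  simp only [Functor.map_add, Functor.map_zsmul, Functor.map_comp]

/-- the section of the projection -/
noncomputable def s (F : A) : Φ.obj ((C P η).obj F) ⟶ Φ.obj (P.obj F) :=
  (PreservesCokernel.iso Φ (η.app F)).hom ≫
    cokernel.desc _ (𝟙 (Φ.obj (P.obj F)) - r F ≫ Φ.map (η.app F)) (by
      rw [Preadditive.comp_sub, Category.comp_id, reassoc_of% (hr F), sub_self])

lemma pi_s (F : A) : Φ.map ((pi P η).app F) ≫ s P η Φ r hr F = 𝟙 (Φ.obj (P.obj F)) - r F ≫ Φ.map (η.app F) := by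
  have : Φ.map (cokernel.π (η.app F)) ≫ (PreservesCokernel.iso Φ (η.app F)).hom = cokernel.π _ := by
    rw [← Iso.eq_comp_inv, PreservesCokernel.iso_inv, π_comp_cokernelComparison]
  change Φ.map (cokernel.π (η.app F)) ≫ s P η Φ r hr F = _
  rw [s, reassoc_of% this, cokernel.π_desc]

lemma epi_map_pi (F : A) : Epi (Φ.map ((pi P η).app F)) :=
  haveI : Epi ((pi P η).app F) := inferInstanceAs (Epi (cokernel.π _))
  inferInstance

lemma s_pi (F : A) : s P η Φ r hr F ≫ Φ.map ((pi P η).app F) = 𝟙 _ := by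
  haveI := epi_map_pi P η Φ F
  rw [← cancel_epi (Φ.map ((pi P η).app F)), ← Category.assoc, pi_s, Preadditive.sub_comp]
  rw [Category.id_comp, Category.assoc, ← Functor.map_comp]
  rw [show η.app F ≫ (pi P η).app F = 0 from cokernel.condition _, Functor.map_zero, comp_zero,
    sub_zero, Category.comp_id]

include rnat in
lemma s_naturality {F F' : A} (f : F ⟶ F') :
    Φ.map ((C P η).map f) ≫ s P η Φ r hr F' = s P η Φ r hr F ≫ Φ.map (P.map f) := by
  haveI := epi_map_pi P η Φ F
  rw [← cancel_epi (Φ.map ((pi P η).app F))]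
  have h1 : Φ.map (P.map f) ≫ r F' = r F ≫ Φ.map f := rnat f
  have h2 : P.map f ≫ (pi P η).app F' = (pi P η).app F ≫ (C P η).map f := (pi P η).naturality f
  have h3 : f ≫ η.app F' = η.app F ≫ P.map f := η.naturality f
  rw [← Category.assoc, ← Functor.map_comp, ← h2, Functor.map_comp, Category.assoc, pi_s,
    ← Category.assoc (Φ.map ((pi P η).app F)), pi_s]
  simp only [Preadditive.comp_sub, Preadditive.sub_comp, Category.comp_id, Category.id_comp,
    Category.assoc, reassoc_of% h1, ← Functor.map_comp, h3]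

/-- the backward map on a term -/
noncomputable def back : ∀ (q : ℕ) (F : A), Φ.obj ((term P η (q + 1)).obj F) ⟶ Φ.obj ((term P η q).obj F) :=
  fun q F => r ((Cpow P η (q + 1)).obj F) ≫ s P η Φ r hr ((Cpow P η q).obj F)

include rnat in
lemma back_naturality (q : ℕ) {F F' : A} (f : F ⟶ F') :
    Φ.map ((term P η (q + 1)).map f) ≫ back P η Φ r hr q F' =
      back P η Φ r hr q F ≫ Φ.map ((term P η q).map f) := by
  have h1 := rnat ((Cpow P η (q + 1)).map f)
  have h2 := s_naturality P η Φ r rnat hr ((Cpow P η q).map f)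
  rw [back, back, Category.assoc]
  exact (Category.assoc _ _ _).symm.trans ((congrArg (· ≫ _) h1).trans
    ((Category.assoc _ _ _).trans (congrArg (_ ≫ ·) h2)))

lemma e_back (q : ℕ) (F : A) : Φ.map (e P η q F) ≫ back P η Φ r hr q F =
    𝟙 (Φ.obj (P.obj ((Cpow P η q).obj F))) - r ((Cpow P η q).obj F) ≫ Φ.map (η.app ((Cpow P η q).obj F)) := by
  refine Eq.trans ?_ (pi_s P η Φ r hr ((Cpow P η q).obj F))
  rw [e, back, Functor.map_comp, Category.assoc]
  exact congrArg (_ ≫ ·) ((Category.assoc _ _ _).symm.trans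
    ((congrArg (· ≫ _) (hr _)).trans (Category.id_comp _)))

lemma back_e (q : ℕ) (F : A) : back P η Φ r hr q F ≫ Φ.map (e P η q F) =
    r ((Cpow P η (q + 1)).obj F) ≫ Φ.map (η.app ((Cpow P η (q + 1)).obj F)) := by
  rw [e, back, Functor.map_comp, Category.assoc]
  exact congrArg (_ ≫ ·) ((Category.assoc _ _ _).symm.trans
    ((congrArg (· ≫ _) (s_pi P η Φ r hr _)).trans (Category.id_comp _)))

/-- the retraction -/
noncomputable def retr (n : ℤ) : Φ.obj (X P η K n) ⟶ Φ.obj (K.X n) :=
  mdesc P η K Φ fun q m h =>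
    match q, h with
    | 0, h => r (K.X m) ≫ Φ.map (K.XIsoOfEq (by simpa using h)).hom
    | _ + 1, _ => 0

/-- the contracting homotopy -/
noncomputable def htp (n j : ℤ) (hj : j + 1 = n) : Φ.obj (X P η K n) ⟶ Φ.obj (X P η K j) :=
  mdesc P η K Φ fun q m h =>
    match q, h with
    | 0, _ => 0
    | q + 1, h => -(back P η Φ r hr q (K.X m) ≫ Φ.map (ι P η K q m j (by omega)))

/-- the retraction as a map of complexes -/
noncomputable def retrHom : (Φ.mapHomologicalComplex (ComplexShape.up ℤ)).obj (G P η K) ⟶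
    (Φ.mapHomologicalComplex (ComplexShape.up ℤ)).obj K where
  f n := retr P η K Φ r n
  comm' := fun i j hij => by
    obtain rfl : i + 1 = j := hij
    simp only [Functor.mapHomologicalComplex_obj_d, G_d]
    apply map_hom_ext P η K Φ
    rintro (_ | q) m h
    · obtain rfl : m = i := by simpa using h
      simp only [retr, ι_mdesc_assoc, reassoc_of% map_ι_d, pow_zero, one_smul,
        Functor.map_add, Preadditive.add_comp, Functor.map_comp, Category.assoc, ι_mdesc,
        comp_zero, add_zero, HomologicalComplex.XIsoOfEq_rfl, Iso.refl_hom, CategoryTheory.Functor.map_id,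
        Category.comp_id]
      exact (rnat (K.d m (m + 1))).symm
    · simp only [retr, ι_mdesc_assoc, zero_comp, reassoc_of% map_ι_d,
        Functor.map_add, Functor.map_zsmul, Preadditive.add_comp, Preadditive.zsmul_comp,
        Functor.map_comp, Category.assoc, ι_mdesc, comp_zero, smul_zero, add_zero]

include rnat in
lemma htp_comm (k : ℤ) : retr P η K Φ r (k + 1) ≫ Φ.map ((aug P η K).f (k + 1)) =
    Φ.map (d P η K (k + 1)) ≫ htp P η K Φ r hr (k + 1 + 1) (k + 1) rfl +
      htp P η K Φ r hr (k + 1) k rfl ≫ Φ.map (d P η K k) + 𝟙 _ := by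
  apply map_hom_ext P η K Φ
  rintro (_ | q) m h
  · obtain rfl : m = k + 1 := by simpa using h
    simp only [retr, htp, aug, Preadditive.comp_add, ι_mdesc_assoc, reassoc_of% map_ι_d, map_ι_d,
      pow_zero, one_smul, Functor.map_add, Functor.map_comp, Preadditive.add_comp,
      Category.assoc, ι_mdesc, zero_comp, comp_zero, zero_add, add_zero, Category.comp_id,
      HomologicalComplex.XIsoOfEq_rfl, Iso.refl_hom, CategoryTheory.Functor.map_id,
      Category.id_comp, Preadditive.comp_neg]
    have hk0 := congrArg (· ≫ Φ.map (ι P η K 0 (k + 1) (k + 1) (by simp)))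
      (e_back P η Φ r hr 0 (K.X (k + 1)))
    simp only [Category.assoc, Preadditive.sub_comp, Category.id_comp] at hk0
    erw [hk0, Category.id_comp, neg_sub]
    exact (sub_add_cancel _ _).symm
  · simp only [retr, htp, aug, Preadditive.comp_add, ι_mdesc_assoc, reassoc_of% map_ι_d, map_ι_d,
      Functor.map_add, Functor.map_zsmul, Functor.map_comp, Preadditive.add_comp,
      Preadditive.zsmul_comp, Preadditive.comp_zsmul, Category.assoc, ι_mdesc, zero_comp,
      Category.comp_id, Preadditive.comp_neg, Preadditive.neg_comp, smul_neg, smul_add, neg_add_rev]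
    have hb := congrArg (· ≫ Φ.map (ι P η K (q + 1) m (k + 1) (by omega)))
      (e_back P η Φ r hr (q + 1) (K.X m))
    have he := congrArg (· ≫ Φ.map (ι P η K (q + 1) m (k + 1) (by omega)))
      (back_e P η Φ r hr q (K.X m))
    have hn := congrArg (· ≫ Φ.map (ι P η K q (m + 1) (k + 1) (by omega)))
      (back_naturality P η Φ r rnat hr q (K.d m (m + 1)))
    simp only [Category.assoc, Preadditive.sub_comp, Category.id_comp] at hb he hn
    erw [hb, he, hn, Category.id_comp]
    rw [pow_succ, mul_neg_one, neg_smul]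
    abel

/-- after `Φ`, the coaugmentation is a homotopy equivalence -/
noncomputable def homotopyEquiv :
    HomotopyEquiv ((Φ.mapHomologicalComplex (ComplexShape.up ℤ)).obj K)
      ((Φ.mapHomologicalComplex (ComplexShape.up ℤ)).obj (G P η K)) where
  hom := (Φ.mapHomologicalComplex (ComplexShape.up ℤ)).map (aug P η K)
  inv := retrHom P η K Φ r rnat
  homotopyHomInvId := Homotopy.ofEq (by
    ext n
    simp only [HomologicalComplex.comp_f, Functor.mapHomologicalComplex_map_f, retrHom, aug,
      retr, Functor.map_comp, Category.assoc, ι_mdesc, HomologicalComplex.id_f,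
      HomologicalComplex.XIsoOfEq_rfl, Iso.refl_hom, CategoryTheory.Functor.map_id, Category.comp_id]
    exact hr (K.X n))
  homotopyInvHomId :=
    { hom := fun i j => if h : j + 1 = i then htp P η K Φ r hr i j h else 0
      zero := fun i j h => dif_neg h
      comm := fun n => by
        obtain ⟨k, rfl⟩ : ∃ k, n = k + 1 := ⟨n - 1, by omega⟩
        rw [dNext_eq _ (show (ComplexShape.up ℤ).Rel (k + 1) (k + 1 + 1) from rfl),
          prevD_eq _ (show (ComplexShape.up ℤ).Rel k (k + 1) from rfl), dif_pos rfl, dif_pos rfl]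
        simp only [HomologicalComplex.comp_f, HomologicalComplex.id_f, retrHom,
          Functor.mapHomologicalComplex_obj_d, Functor.mapHomologicalComplex_map_f, G_d]
        exact htp_comm P η K Φ r rnat hr k }

@[simp] lemma homotopyEquiv_hom :
    (homotopyEquiv P η K Φ r rnat hr).hom = (Φ.mapHomologicalComplex (ComplexShape.up ℤ)).map (aug P η K) :=
  rfl

end Split

end Groth.Agent.GodTot16
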