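import Groth.Agent.Lib.GodTot16.Basic
import Groth.Agent.Lib.CohFound.Godement
import Groth.Agent.Lib.CohFound.Inst
import Mathlib.Topology.Sheaves.Abelian
import Mathlib.Algebra.Homology.QuasiIso
import Groth.Prelude.Def_CohCx

/-! The Godement resolution of a bounded below complex. -/

universe u

open CategoryTheory TopologicalSpace Opposite CategoryTheory.Limits Groth.Agent.CohFound

set_option linter.style.haveILetI false
set_option backward.isDefEq.respectTransparency false
set_option backward.isDefEq.respectTransparency.types false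

namespace Groth.Agent.GodTot16

variable {X : TopCat.{u}}

instance additive_godFun : (godFun X).Additive := by
  let adj := TopCat.Sheaf.pullbackPushforwardAdjunction AddCommGrpCat.{u} (discMap X)
  haveI := (adj.rightAdjoint_preservesLimits : PreservesLimitsOfSize.{0, 0} _)
  haveI : (TopCat.Sheaf.pushforward AddCommGrpCat.{u} (discMap X)).Additive :=
    Functor.additive_of_preserves_binary_products _
  haveI := adj.left_adjoint_additive
  exact inferInstanceAs ((TopCat.Sheaf.pullback AddCommGrpCat.{u} (discMap X) ⋙
    TopCat.Sheaf.pushforward AddCommGrpCat.{u} (discMap X)).Additive)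

/-- the stalk functor -/
noncomputable abbrev stk (x : X) : CohTop.Ab X ⥤ AddCommGrpCat.{u} :=
  sheafToPresheaf (Opens.grothendieckTopology X) AddCommGrpCat.{u} ⋙
    TopCat.Presheaf.stalkFunctor AddCommGrpCat.{u} x

instance additive_stk (x : X) : (stk x).Additive :=
  inferInstanceAs ((TopCat.Sheaf.forget AddCommGrpCat.{u} X ⋙
    TopCat.Presheaf.stalkFunctor AddCommGrpCat.{u} x).Additive)

instance preservesFiniteLimits_stk (x : X) : PreservesFiniteLimits (stk x) :=
  inferInstanceAs (PreservesFiniteLimits
      (TopCat.Sheaf.forget AddCommGrpCat.{u} X ⋙ TopCat.Presheaf.stalkFunctor AddCommGrpCat.{u} x))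

instance isLeftAdjoint_stk (x : X) : (stk x).IsLeftAdjoint :=
  inferInstanceAs ((TopCat.Sheaf.forget AddCommGrpCat.{u} X ⋙
    TopCat.Presheaf.stalkFunctor AddCommGrpCat.{u} x).IsLeftAdjoint)

instance preservesFiniteColimits_stk (x : X) : PreservesFiniteColimits (stk x) :=
  haveI : PreservesColimitsOfSize.{0, 0} (stk x) := inferInstance
  PreservesColimitsOfSize.preservesFiniteColimits _

/-- the stalkwise retraction -/
noncomputable def retraction (x : X) (F : CohTop.Ab X) :
    (stk x).obj ((godFun X).obj F) ⟶ (stk x).obj F :=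
  haveI := isIso_stalkUnit (discMap X) F x
  TopCat.Presheaf.stalkPushforward AddCommGrpCat.{u} (discMap X)
    ((TopCat.Sheaf.pullback AddCommGrpCat.{u} (discMap X)).obj F).presheaf x ≫ inv (stalkUnit (discMap X) F x)

lemma stalkUnit_natural (x : X) {F G : CohTop.Ab X} (φ : F ⟶ G) :
    (stk x).map φ ≫ stalkUnit (discMap X) G x = stalkUnit (discMap X) F x ≫
      (TopCat.Presheaf.stalkFunctor AddCommGrpCat.{u} _).map
        ((CohTop.pull (discMap X)).map φ).hom := by
  refine TopCat.Presheaf.stalk_hom_ext _ fun U hU => ?_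
  erw [TopCat.Presheaf.stalkFunctor_map_germ_assoc]
  erw [germ_stalkUnit (discMap X) G x U hU, ← Category.assoc (TopCat.Presheaf.germ _ U _ hU),
    germ_stalkUnit (discMap X) F x U hU]
  have h := congrArg (fun ψ => ψ.hom.app (op U))
    ((TopCat.Sheaf.pullbackPushforwardAdjunction AddCommGrpCat.{u} (discMap X)).unit.naturality φ)
  rw [Category.assoc]
  erw [TopCat.Presheaf.stalkFunctor_map_germ]
  refine (Category.assoc _ _ _).symm.trans ((congrArg (· ≫ _) h).trans ?_)
  exact Category.assoc _ _ _

lemma retraction_natural (x : X) {F G : CohTop.Ab X} (φ : F ⟶ G) :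
    (stk x).map ((godFun X).map φ) ≫ retraction x G = retraction x F ≫ (stk x).map φ := by
  haveI := isIso_stalkUnit (discMap X) F x
  haveI := isIso_stalkUnit (discMap X) G x
  have h := stalkUnit_natural x φ
  have key : (stk x).map ((godFun X).map φ) ≫ TopCat.Presheaf.stalkPushforward AddCommGrpCat.{u}
        (discMap X) ((TopCat.Sheaf.pullback AddCommGrpCat.{u} (discMap X)).obj G).presheaf x =
      TopCat.Presheaf.stalkPushforward AddCommGrpCat.{u} (discMap X)
          ((TopCat.Sheaf.pullback AddCommGrpCat.{u} (discMap X)).obj F).presheaf x ≫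
        (TopCat.Presheaf.stalkFunctor AddCommGrpCat.{u} _).map
          ((CohTop.pull (discMap X)).map φ).hom := by
    refine TopCat.Presheaf.stalk_hom_ext _ fun U hU => ?_
    erw [TopCat.Presheaf.stalkFunctor_map_germ_assoc, TopCat.Presheaf.stalkPushforward_germ,
      TopCat.Presheaf.stalkPushforward_germ_assoc, TopCat.Presheaf.stalkFunctor_map_germ]
    rfl
  have h' : (TopCat.Presheaf.stalkFunctor AddCommGrpCat.{u} _).map
        ((CohTop.pull (discMap X)).map φ).hom ≫ inv (stalkUnit (discMap X) G x) =
      inv (stalkUnit (discMap X) F x) ≫ (stk x).map φ := by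
    rw [IsIso.eq_inv_comp]
    refine (Category.assoc _ _ _).symm.trans ((congrArg (· ≫ _) h.symm).trans ?_)
    exact (Category.assoc _ _ _).trans ((congrArg (_ ≫ ·) (IsIso.hom_inv_id _)).trans (Category.comp_id _))
  refine (Category.assoc _ _ _).symm.trans ((congrArg (· ≫ _) key).trans ?_)
  refine (Category.assoc _ _ _).trans ((congrArg (_ ≫ ·) h').trans ?_)
  exact (Category.assoc _ _ _).symm

lemma retraction_unit (x : X) (F : CohTop.Ab X) :
    (stk x).map ((godUnit X).app F) ≫ retraction x F = 𝟙 _ := by
  haveI := isIso_stalkUnit (discMap X) F x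
  rw [retraction]
  exact (Category.assoc _ _ _).symm.trans (IsIso.hom_inv_id (stalkUnit (discMap X) F x))

variable (K : CochainComplex (CohTop.Ab X) ℤ)

/-- the resolving complex -/
noncomputable abbrev res : CochainComplex (CohTop.Ab X) ℤ := G (godFun X) (godUnit X) K

/-- the resolving map -/
noncomputable abbrev resHom : K ⟶ res K := aug (godFun X) (godUnit X) K

/-- the stalkwise homotopy equivalence -/
noncomputable def stalkEquiv (x : X) :
    HomotopyEquiv ((CohCx.stalkCx x).obj K) ((CohCx.stalkCx x).obj (res K)) :=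
  homotopyEquiv (godFun X) (godUnit X) K (stk x) (retraction x)
    (fun φ => retraction_natural x φ) (retraction_unit x)

lemma quasiIso_resHom : QuasiIso (resHom K) := by
  refine ⟨fun n => ?_⟩
  rw [quasiIsoAt_iff_isIso_homologyMap]
  haveI : ∀ x : X, (stk x).PreservesHomology := fun x => inferInstance
  suffices ∀ x : X, IsIso ((stk x).map (HomologicalComplex.homologyMap (resHom K) n)) by
    haveI : ∀ x : X, IsIso ((TopCat.Presheaf.stalkFunctor AddCommGrpCat.{u} x).map
      (HomologicalComplex.homologyMap (resHom K) n).hom) := this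
    exact TopCat.Presheaf.isIso_of_stalkFunctor_map_iso _
  intro x
  haveI : QuasiIso ((CohCx.stalkCx x).map (resHom K)) := by
    change QuasiIso (stalkEquiv K x).hom
    exact (stalkEquiv K x).quasiIso_hom
  haveI : IsIso (HomologicalComplex.homologyMap ((CohCx.stalkCx x).map (resHom K)) n) := inferInstance
  have h := ShortComplex.mapHomologyIso_hom_naturality
    ((HomologicalComplex.shortComplexFunctor (CohTop.Ab X) (ComplexShape.up ℤ) n).map (resHom K)) (stk x)
  have h' : (stk x).map (HomologicalComplex.homologyMap (resHom K) n) =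
      ((K.sc n).mapHomologyIso (stk x)).inv ≫
        HomologicalComplex.homologyMap ((CohCx.stalkCx x).map (resHom K)) n ≫
        (((res K).sc n).mapHomologyIso (stk x)).hom := by
    rw [Iso.eq_inv_comp]
    exact h.symm
  rw [h']
  infer_instance

variable {K} (a : ℤ)

lemma isZero_term (hK : ∀ m, m < a → IsZero (K.X m)) {q : ℕ} {m : ℤ} (h : m < a) :
    IsZero ((term (godFun X) (godUnit X) q).obj (K.X m)) :=
  Functor.map_isZero _ (hK m h)

lemma isStrictlyGE_res (hK : ∀ m, m < a → IsZero (K.X m)) : (res K).IsStrictlyGE a := by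
  rw [CochainComplex.isStrictlyGE_iff]
  intro n hn
  rw [IsZero.iff_id_eq_zero]
  exact hom_ext (godFun X) (godUnit X) K fun q m h =>
    (isZero_term a hK (by omega)).eq_of_src _ _

lemma isFlasque_res (hK : ∀ m, m < a → IsZero (K.X m)) (n : ℤ) :
    TopCat.Sheaf.IsFlasque ((res K).X n) := by
  classical
  let T : ℕ → CohTop.Ab X := fun q => (term (godFun X) (godUnit X) q).obj (K.X (n - q))
  change TopCat.Sheaf.IsFlasque (∐ T)
  let p (q : ℕ) : ∐ T ⟶ T q := Sigma.desc fun q' => if e : q' = q then eqToHom (by rw [e]) else 0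
  let s : Finset ℕ := Finset.range ((n - a).toNat + 1)
  have hid : 𝟙 (∐ T) = ∑ q ∈ s, p q ≫ Sigma.ι T q := by
    refine Sigma.hom_ext _ _ fun q' => ?_
    rw [Preadditive.comp_sum]
    by_cases hq : q' ∈ s
    · rw [Finset.sum_eq_single q']
      · simp [p]
      · intro b _ hb
        simp [p, hb.symm]
      · exact fun h => (h hq).elim
    · refine IsZero.eq_of_src (isZero_term a hK ?_) _ _
      simp only [s, Finset.mem_range] at hq
      omega
  refine isFlasque_mk _ fun U V h t => ?_
  have hT : ∀ q, Function.Surjective ((T q).obj.map (homOfLE h).op) := fun q => by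
    have := CohFound.isFlasque_godFun X ((Cpow (godFun X) (godUnit X) q).obj (K.X (n - q)))
    exact @flasque_surjective _ (T q) this _ _ h
  choose y hy using fun q => hT q ((p q).hom.app (op V) t)
  refine ⟨∑ q ∈ s, (Sigma.ι T q).hom.app (op U) (y q), ?_⟩
  rw [map_sum]
  let ev := sheafToPresheaf (Opens.grothendieckTopology (X : Type u)) AddCommGrpCat.{u} ⋙
    (evaluation _ AddCommGrpCat.{u}).obj (op V)
  have h2 : t = ∑ q ∈ s, (p q ≫ Sigma.ι T q).hom.app (op V) t := by
    have e := congrArg (fun φ => ev.map φ t) hid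
    simp only [CategoryTheory.Functor.map_id, Functor.map_sum] at e
    refine e.trans ?_
    clear e
    induction s using Finset.induction_on with
    | empty => rfl
    | @insert b s hb ih => rw [Finset.sum_insert hb, Finset.sum_insert hb, ← ih]; rfl
  refine Eq.trans (Finset.sum_congr rfl fun q _ => ?_) h2.symm
  refine (NatTrans.naturality_apply (Sigma.ι T q).hom (homOfLE h).op (y q)).symm.trans ?_
  exact congrArg _ (hy q)

end Groth.Agent.GodTot16
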